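import Mathlib.Algebra.Homology.DerivedCategory.Fractions
import Mathlib.Algebra.Homology.DerivedCategory.HomologySequence
import Mathlib.Algebra.Homology.Embedding.TruncLEHomology

/-!
Bounded roofs in the derived category; homotopies lifted through truncations.
-/

set_option autoImplicit false
set_option linter.unusedSectionVars false
set_option linter.style.haveILetI false
set_option backward.isDefEq.respectTransparency false
set_option backward.isDefEq.respectTransparency.types false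
universe w v u

namespace Groth.Agent.CohDerRoofs

open CategoryTheory Limits HomologicalComplex CochainComplex DerivedCategory
open scoped ZeroObject

variable {A : Type u} [Category.{v} A] [Abelian A]

/-- a homotopy whose components factor through a degreewise mono -/
lemma nonempty_homotopy_lift {K L M : CochainComplex A ℤ} {f g : K ⟶ L} (m : L ⟶ M)
    (hm : ∀ i, Mono (m.f i)) (h : Homotopy (f ≫ m) (g ≫ m))
    (hk : ∀ i j, ∃ k : K.X i ⟶ L.X j, k ≫ m.f j = h.hom i j) : Nonempty (Homotopy f g) := by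
  choose k hk using hk
  refine ⟨{ hom := k, zero := fun i j hij => ?_, comm := fun i => ?_ }⟩
  · haveI := hm j
    rw [← cancel_mono (m.f j), hk, zero_comp, h.zero i j hij]
  · haveI := hm i
    rw [← cancel_mono (m.f i), Preadditive.add_comp, Preadditive.add_comp, ← dNext_comp_right,
      ← prevD_comp_right, show (fun i j => k i j ≫ m.f j) = h.hom from funext₂ hk]
    exact h.comm i

lemma isIso_ιTruncLE_f (G : CochainComplex A ℤ) (p i : ℤ) (hi : i < p) :
    IsIso ((G.ιTruncLE p).f i) := by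
  obtain ⟨k, rfl⟩ := Int.le.dest hi.le
  have hk : ¬ (ComplexShape.embeddingUpIntLE (i + k)).BoundaryLE k := by
    rw [ComplexShape.boundaryLE_embeddingUpIntLE_iff]
    lia
  have hf : (ComplexShape.embeddingUpIntLE (i + k)).f k = i := by simp
  have : IsIso ((G.op.πTruncGE (ComplexShape.embeddingUpIntLE (i + k)).op).f i) := by
    dsimp [HomologicalComplex.πTruncGE]
    rw [(ComplexShape.embeddingUpIntLE (i + k)).op.isIso_liftExtend_f_iff _ _ hf]
    exact G.op.isIso_restrictionToTruncGE' _ k (by simpa using hk)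
  exact inferInstanceAs
    (IsIso ((G.op.πTruncGE (ComplexShape.embeddingUpIntLE (i + k)).op).f i).unop)

lemma nonempty_homotopy_truncLE {K L : CochainComplex A ℤ} (n : ℤ) [K.IsStrictlyLE n]
    {f g : K ⟶ L.truncLE n} (h : Homotopy (f ≫ L.ιTruncLE n) (g ≫ L.ιTruncLE n)) :
    Nonempty (Homotopy f g) := by
  haveI : ∀ i, Mono ((L.ιTruncLE n).f i) := fun i => inferInstanceAs
    (Mono ((HomologicalComplex.ιTruncLE L (ComplexShape.embeddingUpIntLE n)).f i))
  refine nonempty_homotopy_lift (L.ιTruncLE n) inferInstance h fun i j => ?_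
  by_cases hij : j + 1 = i
  · by_cases hj : j < n
    · haveI := isIso_ιTruncLE_f L n j hj
      exact ⟨h.hom i j ≫ inv ((L.ιTruncLE n).f j), by simp⟩
    · exact ⟨0, (K.isZero_of_isStrictlyLE n i (by lia)).eq_of_src _ _⟩
  · exact ⟨0, by rw [zero_comp, h.zero i j hij]⟩

variable [HasDerivedCategory.{w} A]

lemma quasiIso_of_isIso_Q_map {K L : CochainComplex A ℤ} (f : K ⟶ L) [IsIso (Q.map f)] :
    QuasiIso f := by
  rw [← isIso_Q_map_iff_quasiIso]
  infer_instance

lemma mem_quasiIso_quotient {K L : CochainComplex A ℤ} (f : K ⟶ L) [hf : QuasiIso f] :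
    HomotopyCategory.quasiIso A (ComplexShape.up ℤ) ((HomotopyCategory.quotient _ _).map f) :=
  (HomotopyCategory.quotient_map_mem_quasiIso_iff f).2 hf

lemma boundedAbove_roofs_aux (X Y : CochainComplex A ℤ) (a : ℤ) [X.IsStrictlyLE a] :
    (∀ φ : Qh.obj ((HomotopyCategory.quotient _ _).obj X) ⟶ Qh.obj ((HomotopyCategory.quotient _ _).obj Y), ∃ (K' : HomotopyCategory A (ComplexShape.up ℤ)) (n : ℤ)
      (_ : CochainComplex.IsStrictlyLE K'.as n) (s : K' ⟶ (HomotopyCategory.quotient _ _).obj X) (f : K' ⟶ (HomotopyCategory.quotient _ _).obj Y),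
      HomotopyCategory.quasiIso A (ComplexShape.up ℤ) s ∧ Qh.map s ≫ φ = Qh.map f) ∧
    (∀ f₁ f₂ : (HomotopyCategory.quotient _ _).obj X ⟶ (HomotopyCategory.quotient _ _).obj Y, Qh.map f₁ = Qh.map f₂ → ∃ (K' : HomotopyCategory A (ComplexShape.up ℤ))
      (n : ℤ) (_ : CochainComplex.IsStrictlyLE K'.as n) (s : K' ⟶ (HomotopyCategory.quotient _ _).obj X),
      HomotopyCategory.quasiIso A (ComplexShape.up ℤ) s ∧ s ≫ f₁ = s ≫ f₂) := by
  constructor
  · intro φ
    obtain ⟨X', hX', s, hs, g, hφ⟩ := right_fac_of_isStrictlyLE (X := X) (Y := Y) φ a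
    haveI := quasiIso_of_isIso_Q_map s
    refine ⟨(HomotopyCategory.quotient _ _).obj X', a, hX', (HomotopyCategory.quotient _ _).map s,
      (HomotopyCategory.quotient _ _).map g, mem_quasiIso_quotient s, ?_⟩
    show Q.map s ≫ φ = Q.map g
    rw [hφ, IsIso.hom_inv_id_assoc]
  · intro f₁ f₂ h
    obtain ⟨⟨Z⟩, s, hs, hfac⟩ :=
      (MorphismProperty.map_eq_iff_precomp Qh (HomotopyCategory.quasiIso A _) f₁ f₂).1 h
    change CochainComplex A ℤ at Z
    obtain ⟨s, rfl⟩ := (HomotopyCategory.quotient A (ComplexShape.up ℤ)).map_surjective (X := Z) (Y := X) s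
    haveI : QuasiIso s := (HomotopyCategory.quotient_map_mem_quasiIso_iff s).1 hs
    haveI : IsIso (X.ιTruncLE a) := inferInstanceAs
      (IsIso (HomologicalComplex.ιTruncLE X (ComplexShape.embeddingUpIntLE a)))
    haveI : QuasiIso (CochainComplex.truncLEMap s a) := by
      rw [CochainComplex.quasiIso_truncLEMap_iff]
      infer_instance
    haveI : QuasiIso (Z.ιTruncLE a ≫ s) := by
      rw [← CochainComplex.ιTruncLE_naturality s a]
      infer_instance
    refine ⟨(HomotopyCategory.quotient _ _).obj (Z.truncLE a), a,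
      inferInstanceAs ((Z.truncLE a).IsStrictlyLE a),
      (HomotopyCategory.quotient _ _).map (Z.ιTruncLE a ≫ s), mem_quasiIso_quotient _, ?_⟩
    erw [Functor.map_comp, Category.assoc, hfac, ← Category.assoc]

/-- roofs between bounded above complexes -/
theorem boundedAbove_roofs (K L : HomotopyCategory A (ComplexShape.up ℤ)) (a : ℤ)
    [CochainComplex.IsStrictlyLE K.as a] :
    (∀ φ : Qh.obj K ⟶ Qh.obj L, ∃ (K' : HomotopyCategory A (ComplexShape.up ℤ)) (n : ℤ)
      (_ : CochainComplex.IsStrictlyLE K'.as n) (s : K' ⟶ K) (f : K' ⟶ L),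
      HomotopyCategory.quasiIso A (ComplexShape.up ℤ) s ∧ Qh.map s ≫ φ = Qh.map f) ∧
    (∀ f₁ f₂ : K ⟶ L, Qh.map f₁ = Qh.map f₂ → ∃ (K' : HomotopyCategory A (ComplexShape.up ℤ))
      (n : ℤ) (_ : CochainComplex.IsStrictlyLE K'.as n) (s : K' ⟶ K),
      HomotopyCategory.quasiIso A (ComplexShape.up ℤ) s ∧ s ≫ f₁ = s ≫ f₂) :=
  boundedAbove_roofs_aux K.as L.as a

lemma bounded_roofs_aux (X Y : CochainComplex A ℤ) (b a' b' : ℤ) [X.IsStrictlyLE b]
    [Y.IsStrictlyGE a'] [Y.IsStrictlyLE b'] :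
    (∀ φ : Qh.obj ((HomotopyCategory.quotient _ _).obj X) ⟶ Qh.obj ((HomotopyCategory.quotient _ _).obj Y), ∃ (L' : HomotopyCategory A (ComplexShape.up ℤ)) (m n : ℤ)
      (_ : CochainComplex.IsStrictlyGE L'.as m) (_ : CochainComplex.IsStrictlyLE L'.as n)
      (f : (HomotopyCategory.quotient _ _).obj X ⟶ L') (t : (HomotopyCategory.quotient _ _).obj Y ⟶ L'),
      HomotopyCategory.quasiIso A (ComplexShape.up ℤ) t ∧ φ ≫ Qh.map t = Qh.map f) ∧
    (∀ f₁ f₂ : (HomotopyCategory.quotient _ _).obj X ⟶ (HomotopyCategory.quotient _ _).obj Y, Qh.map f₁ = Qh.map f₂ → ∃ (L' : HomotopyCategory A (ComplexShape.up ℤ))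
      (m n : ℤ) (_ : CochainComplex.IsStrictlyGE L'.as m) (_ : CochainComplex.IsStrictlyLE L'.as n)
      (t : (HomotopyCategory.quotient _ _).obj Y ⟶ L'), HomotopyCategory.quasiIso A (ComplexShape.up ℤ) t ∧ f₁ ≫ t = f₂ ≫ t) := by
  let c := max b b'
  haveI : X.IsStrictlyLE c := X.isStrictlyLE_of_le b c (le_max_left _ _)
  haveI : Y.IsStrictlyLE c := Y.isStrictlyLE_of_le b' c (le_max_right _ _)
  constructor
  · intro φ
    obtain ⟨Y', hG, hL, g, t, ht, hφ⟩ :=
      left_fac_of_isStrictlyLE_of_isStrictlyGE (X := X) (Y := Y) a' c φ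
    haveI := quasiIso_of_isIso_Q_map t
    refine ⟨(HomotopyCategory.quotient _ _).obj Y', a', c, hG, hL,
      (HomotopyCategory.quotient _ _).map g, (HomotopyCategory.quotient _ _).map t,
      mem_quasiIso_quotient t, ?_⟩
    show φ ≫ Q.map t = Q.map g
    rw [hφ, Category.assoc, IsIso.inv_hom_id, Category.comp_id]
  · intro f₁ f₂ h
    obtain ⟨⟨Z⟩, t, ht, hfac⟩ :=
      (MorphismProperty.map_eq_iff_postcomp Qh (HomotopyCategory.quasiIso A _) f₁ f₂).1 h
    change CochainComplex A ℤ at Z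
    obtain ⟨t, rfl⟩ := (HomotopyCategory.quotient A (ComplexShape.up ℤ)).map_surjective (X := Y) (Y := Z) t
    obtain ⟨g₁, rfl⟩ := (HomotopyCategory.quotient A (ComplexShape.up ℤ)).map_surjective (X := X) (Y := Y) f₁
    obtain ⟨g₂, rfl⟩ := (HomotopyCategory.quotient A (ComplexShape.up ℤ)).map_surjective (X := X) (Y := Y) f₂
    haveI : QuasiIso t := (HomotopyCategory.quotient_map_mem_quasiIso_iff t).1 ht
    haveI : IsIso (Y.πTruncGE a') := inferInstanceAs
      (IsIso (HomologicalComplex.πTruncGE Y (ComplexShape.embeddingUpIntGE a')))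
    haveI : QuasiIso (CochainComplex.truncGEMap t a') := by
      rw [CochainComplex.quasiIso_truncGEMap_iff]
      infer_instance
    let t₁ : Y ⟶ Z.truncGE a' := t ≫ Z.πTruncGE a'
    haveI : QuasiIso t₁ := by
      dsimp only [t₁]
      rw [← CochainComplex.πTruncGE_naturality t a']
      infer_instance
    haveI : IsIso (Y.ιTruncLE c) := inferInstanceAs
      (IsIso (HomologicalComplex.ιTruncLE Y (ComplexShape.embeddingUpIntLE c)))
    haveI : QuasiIso (CochainComplex.truncLEMap t₁ c) := by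
      rw [CochainComplex.quasiIso_truncLEMap_iff]
      infer_instance
    let t₂ : Y ⟶ (Z.truncGE a').truncLE c := inv (Y.ιTruncLE c) ≫ CochainComplex.truncLEMap t₁ c
    have ht₂ : t₂ ≫ (Z.truncGE a').ιTruncLE c = t ≫ Z.πTruncGE a' := by
      simp [t₂, t₁]
    haveI : QuasiIso t₂ := inferInstance
    obtain ⟨hh⟩ : Nonempty (Homotopy (g₁ ≫ t₂) (g₂ ≫ t₂)) := by
      refine nonempty_homotopy_truncLE c (HomotopyCategory.homotopyOfEq _ _ ?_)
      have key : ∀ g : X ⟶ Y, (g ≫ t₂) ≫ (Z.truncGE a').ιTruncLE c = (g ≫ t) ≫ Z.πTruncGE a' :=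
        fun g => (Category.assoc _ _ _).trans ((congrArg _ ht₂).trans (Category.assoc _ _ _).symm)
      rw [key, key, Functor.map_comp,
        Functor.map_comp (HomotopyCategory.quotient A _) (g₂ ≫ t), Functor.map_comp,
        Functor.map_comp (HomotopyCategory.quotient A _) g₂ t]
      exact congrArg (fun x => x ≫ _) hfac
    refine ⟨(HomotopyCategory.quotient _ _).obj ((Z.truncGE a').truncLE c), a', c,
      inferInstanceAs (((Z.truncGE a').truncLE c).IsStrictlyGE a'),
      inferInstanceAs (((Z.truncGE a').truncLE c).IsStrictlyLE c),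
      (HomotopyCategory.quotient _ _).map t₂, mem_quasiIso_quotient _, ?_⟩
    exact ((HomotopyCategory.quotient A _).map_comp _ _).symm.trans
      ((HomotopyCategory.eq_of_homotopy _ _ hh).trans ((HomotopyCategory.quotient A _).map_comp _ _))

/-- roofs between bounded complexes -/
theorem bounded_roofs (K L : HomotopyCategory A (ComplexShape.up ℤ)) (b a' b' : ℤ)
    [CochainComplex.IsStrictlyLE K.as b]
    [CochainComplex.IsStrictlyGE L.as a'] [CochainComplex.IsStrictlyLE L.as b'] :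
    (∀ φ : Qh.obj K ⟶ Qh.obj L, ∃ (L' : HomotopyCategory A (ComplexShape.up ℤ)) (m n : ℤ)
      (_ : CochainComplex.IsStrictlyGE L'.as m) (_ : CochainComplex.IsStrictlyLE L'.as n)
      (f : K ⟶ L') (t : L ⟶ L'),
      HomotopyCategory.quasiIso A (ComplexShape.up ℤ) t ∧ φ ≫ Qh.map t = Qh.map f) ∧
    (∀ f₁ f₂ : K ⟶ L, Qh.map f₁ = Qh.map f₂ → ∃ (L' : HomotopyCategory A (ComplexShape.up ℤ))
      (m n : ℤ) (_ : CochainComplex.IsStrictlyGE L'.as m) (_ : CochainComplex.IsStrictlyLE L'.as n)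
      (t : L ⟶ L'), HomotopyCategory.quasiIso A (ComplexShape.up ℤ) t ∧ f₁ ≫ t = f₂ ≫ t) :=
  bounded_roofs_aux K.as L.as b a' b'

section Serre

open CategoryTheory.Pretriangulated

lemma prop_of_exact {P : ObjectProperty A}
    (hP : ∀ S : ComposableArrows A 4, S.Exact → P (S.obj 0) → P (S.obj 1) → P (S.obj 3) →
      P (S.obj 4) → P (S.obj 2)) {X₁ X₂ X₃ X₄ X₅ : A} {f₁ : X₁ ⟶ X₂} {f₂ : X₂ ⟶ X₃}
    {f₃ : X₃ ⟶ X₄} {f₄ : X₄ ⟶ X₅} {w₁ : f₁ ≫ f₂ = 0} {w₂ : f₂ ≫ f₃ = 0} {w₃ : f₃ ≫ f₄ = 0}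
    (e₁ : (ShortComplex.mk f₁ f₂ w₁).Exact) (e₂ : (ShortComplex.mk f₂ f₃ w₂).Exact)
    (e₃ : (ShortComplex.mk f₃ f₄ w₃).Exact) (h₁ : P X₁) (h₂ : P X₂) (h₄ : P X₄) (h₅ : P X₅) :
    P X₃ :=
  hP (ComposableArrows.mk₄ f₁ f₂ f₃ f₄)
    (ComposableArrows.exact_of_δ₀ e₁.exact_toComposableArrows
      (ComposableArrows.exact_of_δ₀ e₂.exact_toComposableArrows e₃.exact_toComposableArrows))
    h₁ h₂ h₄ h₅

/-- cohomology in a weak Serre class: a saturated triangulated subcategory -/
theorem isTriangulated_cohomology_in (P : ObjectProperty A) [P.IsClosedUnderIsomorphisms]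
    (h0 : ∃ Z : A, IsZero Z ∧ P Z)
    (hP : ∀ S : ComposableArrows A 4, S.Exact → P (S.obj 0) → P (S.obj 1) → P (S.obj 3) →
      P (S.obj 4) → P (S.obj 2)) :
    ObjectProperty.IsTriangulated (fun X : DerivedCategory A =>
        ∀ n : ℤ, P ((DerivedCategory.homologyFunctor A n).obj X)) ∧
      ObjectProperty.IsStableUnderRetracts (fun X : DerivedCategory A =>
        ∀ n : ℤ, P ((DerivedCategory.homologyFunctor A n).obj X)) := by
  obtain ⟨Z, hZ, hPZ⟩ := h0
  refine ⟨?_, ⟨fun {X Y} r hY n => ?_⟩⟩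
  · haveI : ObjectProperty.IsClosedUnderIsomorphisms (fun X : DerivedCategory A =>
        ∀ n : ℤ, P ((DerivedCategory.homologyFunctor A n).obj X)) :=
      ⟨fun {X Y} e hX n => P.prop_of_iso ((DerivedCategory.homologyFunctor A n).mapIso e) (hX n)⟩
    exact
      { exists_zero := ⟨0, isZero_zero _, fun n => P.prop_of_iso
          (hZ.iso ((DerivedCategory.homologyFunctor A n).map_isZero (isZero_zero _))) hPZ⟩
        isStableUnderShiftBy := fun a => ⟨fun X hX n => P.prop_of_iso
          (((DerivedCategory.homologyFunctor A 0).shiftIso a n (a + n) rfl).app X).symm (hX (a + n))⟩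
        toIsTriangulatedClosed₂ := ObjectProperty.IsTriangulatedClosed₂.mk' fun T hT h₁ h₃ n =>
          prop_of_exact hP (HomologySequence.exact₁ T hT (n - 1) n)
            (HomologySequence.exact₂ T hT n) (HomologySequence.exact₃ T hT n (n + 1))
            (h₃ (n - 1)) (h₁ n) (h₃ n) (h₁ (n + 1)) }
  · let H := DerivedCategory.homologyFunctor A n
    let i := H.map r.i
    let p := H.map r.r
    have hip : i ≫ p = 𝟙 _ := by rw [← H.map_comp, r.retract, H.map_id]
    haveI : IsSplitMono i := IsSplitMono.mk' ⟨p, hip⟩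
    have w : i ≫ (𝟙 _ - p ≫ i) = 0 := by
      rw [Preadditive.comp_sub, Category.comp_id, reassoc_of% hip, sub_self]
    have e₃ : (ShortComplex.mk i (𝟙 _ - p ≫ i) w).Exact := by
      rw [ShortComplex.exact_iff_exact_up_to_refinements]
      intro T x hx
      refine ⟨T, 𝟙 T, inferInstance, x ≫ p, ?_⟩
      rw [Category.id_comp, Category.assoc]
      have hx' : x ≫ (𝟙 _ - p ≫ i) = 0 := hx
      rw [Preadditive.comp_sub, Category.comp_id, sub_eq_zero] at hx'
      exact hx'
    exact prop_of_exact hP (f₁ := (0 : Z ⟶ Z)) (f₂ := (0 : Z ⟶ _)) (w₁ := comp_zero)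
      (w₂ := zero_comp) (ShortComplex.exact_of_isZero_X₂ _ hZ)
      ((ShortComplex.exact_iff_mono _ rfl).2 inferInstance) e₃ hPZ hPZ (hY n) (hY n)

end Serre

end Groth.Agent.CohDerRoofs
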