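import Groth.Agent.CohDerRoofs.Trunc
import Mathlib.CategoryTheory.Triangulated.TStructure.TruncLTGE

/-!
The map `H^q ⟶ H^(q-1)` attached to a morphism vanishing in homology of two consecutive degrees.
-/

set_option autoImplicit false
set_option linter.unusedSectionVars false
set_option linter.style.haveILetI false
set_option backward.isDefEq.respectTransparency false
set_option backward.isDefEq.respectTransparency.types false
universe w v u

namespace Groth.Agent.CohDerRoofs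

open CategoryTheory Limits Pretriangulated Triangulated DerivedCategory

variable {C : Type u} [Category.{v} C] [Abelian C] [HasDerivedCategory.{w} C]

local notation "𝒕" => DerivedCategory.TStructure.t (C := C)
local notation "Hd" => DerivedCategory.homologyFunctor C

lemma isIso_H_truncLTι (Y : DerivedCategory C) (n i : ℤ) (hi : i < n) :
    IsIso ((Hd i).map ((𝒕.truncLTι n).app Y)) := by
  let T := (𝒕.triangleLTGE n).obj Y
  have hT : T ∈ distTriang (DerivedCategory C) := 𝒕.triangleLTGE_distinguished n Y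
  have hB : T.obj₃.IsGE n := inferInstanceAs ((TStructure.t (C := C)).IsGE ((𝒕.truncGE n).obj Y) n)
  have : Mono ((Hd i).map T.mor₁) :=
    (HomologySequence.exact₁ T hT (i - 1) i).mono_g
      ((isZero_of_isGE T.obj₃ n (i - 1) (by lia)).eq_of_src _ _)
  have : Epi ((Hd i).map T.mor₁) :=
    (HomologySequence.exact₂ T hT i).epi_f ((isZero_of_isGE T.obj₃ n i hi).eq_of_tgt _ _)
  exact isIso_of_mono_of_epi ((Hd i).map T.mor₁)

lemma isIso_H_truncGEπ (Y : DerivedCategory C) (n i : ℤ) (hi : n ≤ i) :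
    IsIso ((Hd i).map ((𝒕.truncGEπ n).app Y)) := by
  let T := (𝒕.triangleLTGE n).obj Y
  have hT : T ∈ distTriang (DerivedCategory C) := 𝒕.triangleLTGE_distinguished n Y
  have hB : T.obj₁.IsLE (n - 1) :=
    inferInstanceAs ((TStructure.t (C := C)).IsLE ((𝒕.truncLT n).obj Y) (n - 1))
  have : Mono ((Hd i).map T.mor₂) :=
    (HomologySequence.exact₂ T hT i).mono_g
      ((isZero_of_isLE T.obj₁ (n - 1) i (by lia)).eq_of_src _ _)
  have : Epi ((Hd i).map T.mor₂) :=
    (HomologySequence.exact₃ T hT i (i + 1)).epi_f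
      ((isZero_of_isLE T.obj₁ (n - 1) (i + 1) (by lia)).eq_of_tgt _ _)
  exact isIso_of_mono_of_epi ((Hd i).map T.mor₂)

lemma homology_truncGELT_map_eq_zero {K K' : DerivedCategory C} (f : K ⟶ K') (a b i : ℤ)
    (ha : a ≤ i) (hb : i < b) (h : (Hd i).map f = 0) :
    (Hd i).map ((𝒕.truncGELT a b).map f) = 0 := by
  haveI := isIso_H_truncGEπ ((𝒕.truncLT b).obj K) a i ha
  haveI := isIso_H_truncLTι K' b i hb
  have h1 : (Hd i).map ((𝒕.truncLT b).map f) = 0 := by
    rw [← cancel_mono ((Hd i).map ((𝒕.truncLTι b).app K')), ← Functor.map_comp,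
      (𝒕.truncLTι b).naturality f]
    simp [h]
  rw [← cancel_epi ((Hd i).map ((𝒕.truncGEπ a).app ((𝒕.truncLT b).obj K))), ← Functor.map_comp]
  show (Hd i).map (_ ≫ (𝒕.truncGE a).map ((𝒕.truncLT b).map f)) = _
  rw [𝒕.truncGEπ_naturality, Functor.map_comp, h1, zero_comp, comp_zero]

/-- the core: amplitude two, zero in homology -/
lemma existsUnique_core {P P' : DerivedCategory C} (q : ℤ) [P.IsLE q] [P'.IsGE (q - 1)] (f : P ⟶ P')
    (h₁ : (Hd (q - 1)).map f = 0) (h₂ : (Hd q).map f = 0) :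
    ∃! L : (𝒕.truncGE q).obj P ⟶ (𝒕.truncLT q).obj P',
      f = (𝒕.truncGEπ q).app P ≫ L ≫ (𝒕.truncLTι q).app P' := by
  have hTP := 𝒕.triangleLTGE_distinguished q P
  have hTP' := 𝒕.triangleLTGE_distinguished q P'
  haveI : ((𝒕.truncGE q).obj P').IsGE q :=
    inferInstanceAs ((TStructure.t (C := C)).IsGE ((𝒕.truncGE q).obj P') q)
  haveI : ((𝒕.truncLT q).obj P).IsLE (q - 1) :=
    inferInstanceAs ((TStructure.t (C := C)).IsLE ((𝒕.truncLT q).obj P) (q - 1))
  haveI : ((𝒕.truncLT q).obj P').IsGE (q - 1) :=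
    inferInstanceAs ((TStructure.t (C := C)).IsGE ((𝒕.truncLT q).obj P') (q - 1))
  haveI : 𝒕.IsLE ((𝒕.truncGE q).obj P) q := inferInstance
  obtain ⟨w, hw⟩ : ∃ w : P ⟶ (𝒕.truncLT q).obj P', f = w ≫ (𝒕.truncLTι q).app P' :=
    Triangle.coyoneda_exact₂ _ hTP' f
      (eq_zero_of_homology_eq_zero q (f ≫ (𝒕.truncGEπ q).app P')
        (by rw [Functor.map_comp, h₂, zero_comp]))
  have hw0 : (𝒕.truncLTι q).app P ≫ w = 0 := by
    refine eq_zero_of_homology_eq_zero (q - 1) ((𝒕.truncLTι q).app P ≫ w) ?_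
    haveI := isIso_H_truncLTι P' q (q - 1) (by lia)
    rw [← cancel_mono ((Hd (q - 1)).map ((𝒕.truncLTι q).app P')), ← Functor.map_comp, Category.assoc,
      ← hw, Functor.map_comp, h₁, comp_zero, zero_comp]
  obtain ⟨L, hL⟩ : ∃ L, w = (𝒕.truncGEπ q).app P ≫ L := Triangle.yoneda_exact₂ _ hTP w hw0
  refine ⟨L, show f = _ by rw [hw, hL, Category.assoc], fun M hM => ?_⟩
  rw [← sub_eq_zero]
  have h0 : (M - L) ≫ (𝒕.truncLTι q).app P' = 0 := by
    have e : (𝒕.truncGEπ q).app P ≫ (M - L) ≫ (𝒕.truncLTι q).app P' = 0 := by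
      rw [Preadditive.sub_comp, Preadditive.comp_sub, ← hM, hw, hL, Category.assoc, sub_self]
    obtain ⟨g, hg⟩ := Triangle.yoneda_exact₃ _ hTP _ e
    have : g = 0 := 𝒕.zero_of_isLE_of_isGE g (q - 2) (q - 1) (by lia)
      (𝒕.isLE_shift ((𝒕.truncLT q).obj P) (q - 1) 1 (q - 2) (by lia)) ‹P'.IsGE (q - 1)›
    rw [hg, this, comp_zero]
  obtain ⟨g, hg⟩ := Triangle.coyoneda_exact₂ _ (inv_rot_of_distTriang _ hTP') (M - L) h0
  have : g = 0 := 𝒕.zero_of_isLE_of_isGE g q (q + 1) (by lia) inferInstance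
    (𝒕.isGE_shift ((𝒕.truncGE q).obj P') q (-1) (q + 1) (by lia))
  rw [hg, this, zero_comp]

/-- the statement -/
theorem existsUnique_truncMap {K K' : DerivedCategory C} (f : K ⟶ K') (q : ℤ)
    (h₁ : (Hd (q - 1)).map f = 0) (h₂ : (Hd q).map f = 0) :
    ∃! L : (𝒕.truncGELT q (q + 1)).obj K ⟶ (𝒕.truncGELT (q - 1) q).obj K',
      (𝒕.truncGELT (q - 1) (q + 1)).map f =
        (𝒕.natTransTruncGEOfLE (q - 1) q (sub_one_lt q).le).app ((𝒕.truncLT (q + 1)).obj K) ≫
          L ≫ (𝒕.truncGE (q - 1)).map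
            ((𝒕.natTransTruncLTOfLE q (q + 1) (lt_add_one q).le).app K') := by
  let M := (𝒕.truncLT (q + 1)).obj K
  let P := (𝒕.truncGE (q - 1)).obj M
  let M' := (𝒕.truncLT (q + 1)).obj K'
  let P' := (𝒕.truncGE (q - 1)).obj M'
  let π := (𝒕.natTransTruncGEOfLE (q - 1) q (sub_one_lt q).le).app M
  let B := (𝒕.truncGE (q - 1)).obj ((𝒕.truncLT q).obj K')
  let ι : B ⟶ P' :=
    (𝒕.truncGE (q - 1)).map ((𝒕.natTransTruncLTOfLE q (q + 1) (lt_add_one q).le).app K')
  haveI : P.IsLE q := inferInstanceAs ((TStructure.t (C := C)).IsLE ((𝒕.truncGE (q - 1)).obj M) q)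
  haveI : P'.IsGE (q - 1) :=
    inferInstanceAs ((TStructure.t (C := C)).IsGE ((𝒕.truncGE (q - 1)).obj M') (q - 1))
  haveI : B.IsGE (q - 1) := inferInstanceAs
    ((TStructure.t (C := C)).IsGE ((𝒕.truncGE (q - 1)).obj ((𝒕.truncLT q).obj K')) (q - 1))
  haveI hB : 𝒕.IsLE B (q - 1) := inferInstance
  let e₁ := (𝒕.truncGE q).map ((𝒕.truncGEπ (q - 1)).app M)
  haveI : IsIso e₁ := 𝒕.isIso_truncGE_map_truncGEπ_app q (q - 1) (by lia) M
  have he₁ : π ≫ e₁ = (𝒕.truncGEπ q).app P := by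
    haveI : 𝒕.IsGE ((𝒕.truncGE q).obj P) (q - 1) := 𝒕.isGE_truncGE_obj _ _ _ (by lia)
    refine 𝒕.from_truncGE_obj_ext ?_
    show (𝒕.truncGEπ (q - 1)).app M ≫ π ≫ e₁ = _
    rw [← Category.assoc, 𝒕.π_natTransTruncGEOfLE_app]
    exact 𝒕.truncGEπ_naturality q _
  let e : B ⟶ (𝒕.truncLT q).obj P' := 𝒕.liftTruncLT ι (q - 1) q (by lia)
  have he : e ≫ (𝒕.truncLTι q).app P' = ι := 𝒕.liftTruncLT_ι ι (q - 1) q (by lia)
  haveI : IsIso ((Hd (q - 1)).map ι) := by
    haveI := isIso_H_truncLTι K' q (q - 1) (by lia)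
    haveI := isIso_H_truncLTι K' (q + 1) (q - 1) (by lia)
    haveI : IsIso ((Hd (q - 1)).map
        ((𝒕.natTransTruncLTOfLE q (q + 1) (lt_add_one q).le).app K')) :=
      IsIso.of_isIso_fac_right (g := (Hd (q - 1)).map
          ((𝒕.natTransTruncLTOfLE q (q + 1) (lt_add_one q).le).app K'))
        (f := (Hd (q - 1)).map ((𝒕.truncLTι (q + 1)).app K'))
        (h := (Hd (q - 1)).map ((𝒕.truncLTι q).app K'))
        (by rw [← Functor.map_comp, 𝒕.natTransTruncLTOfLE_ι_app])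
    haveI := isIso_H_truncGEπ ((𝒕.truncLT q).obj K') (q - 1) (q - 1) le_rfl
    haveI := isIso_H_truncGEπ M' (q - 1) (q - 1) le_rfl
    refine IsIso.of_isIso_fac_left (f := (Hd (q - 1)).map
      ((𝒕.truncGEπ (q - 1)).app ((𝒕.truncLT q).obj K')))
      (h := (Hd (q - 1)).map ((𝒕.natTransTruncLTOfLE q (q + 1) (lt_add_one q).le).app K') ≫
        (Hd (q - 1)).map ((𝒕.truncGEπ (q - 1)).app M')) ?_
    rw [← Functor.map_comp, ← Functor.map_comp]
    exact congrArg _ (𝒕.truncGEπ_naturality (q - 1) _)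
  haveI : IsIso e := by
    haveI := isIso_H_truncLTι P' q (q - 1) (by lia)
    haveI : IsIso ((Hd (q - 1)).map e) :=
      IsIso.of_isIso_fac_right (f := (Hd (q - 1)).map ((𝒕.truncLTι q).app P'))
        (h := (Hd (q - 1)).map ι) (by rw [← Functor.map_comp, he])
    haveI : ((𝒕.truncLT q).obj P').IsGE (q - 1) :=
      inferInstanceAs ((TStructure.t (C := C)).IsGE ((𝒕.truncLT q).obj P') (q - 1))
    haveI : ((𝒕.truncLT q).obj P').IsLE (q - 1) :=
      inferInstanceAs ((TStructure.t (C := C)).IsLE ((𝒕.truncLT q).obj P') (q - 1))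
    haveI : B.IsLE (q - 1) := hB
    rw [DerivedCategory.isIso_iff]
    intro i
    rcases lt_trichotomy i (q - 1) with hi | hi | hi
    · exact (isZero_of_isGE B (q - 1) i hi).isIso (isZero_of_isGE _ (q - 1) i hi) _
    · subst hi; infer_instance
    · exact (isZero_of_isLE B (q - 1) i hi).isIso (isZero_of_isLE _ (q - 1) i hi) _
  obtain ⟨L, hL, hu⟩ := existsUnique_core (P := P) (P' := P') q ((𝒕.truncGELT (q - 1) (q + 1)).map f : P ⟶ P')
    (homology_truncGELT_map_eq_zero f (q - 1) (q + 1) (q - 1) le_rfl (by lia) h₁)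
    (homology_truncGELT_map_eq_zero f (q - 1) (q + 1) q (by lia) (by lia) h₂)
  refine ⟨e₁ ≫ L ≫ inv e, ?_, fun M₀ hM₀ => ?_⟩
  · show (𝒕.truncGELT (q - 1) (q + 1)).map f = π ≫ (e₁ ≫ L ≫ inv e) ≫ ι
    rw [← he]
    simp only [Category.assoc, IsIso.inv_hom_id_assoc]
    rw [← Category.assoc π, he₁]
    exact hL
  · have := hu (inv e₁ ≫ M₀ ≫ e) (by
      show (𝒕.truncGELT (q - 1) (q + 1)).map f = _
      rw [← he₁]
      simp only [Category.assoc, IsIso.hom_inv_id_assoc, he]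
      exact hM₀)
    rw [← this]
    simp

end Groth.Agent.CohDerRoofs
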