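import Groth.Agent.CohDerRoofs.Basic
import Mathlib.Algebra.Homology.DerivedCategory.TStructure

/-!
Morphisms with vanishing homology in one degree factor through truncations.
-/

set_option autoImplicit false
set_option linter.unusedSectionVars false
set_option linter.style.haveILetI false
set_option backward.isDefEq.respectTransparency false
set_option backward.isDefEq.respectTransparency.types false
universe w v u

namespace Groth.Agent.CohDerRoofs

open CategoryTheory Limits Pretriangulated HomologicalComplex DerivedCategory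

variable {A : Type u} [Category.{v} A] [Abelian A] [HasDerivedCategory.{w} A]

local notation "Hd" => DerivedCategory.homologyFunctor A

lemma f_eq_zero_of_homologyMap_eq_zero {X Y : CochainComplex A ℤ} (m : ℤ) [X.IsStrictlyLE m]
    [Y.IsStrictlyGE m] (g : X ⟶ Y) (h : homologyMap g m = 0) : g = 0 := by
  ext i
  rcases lt_trichotomy i m with hi | hi | hi
  · exact (Y.isZero_of_isStrictlyGE m i hi).eq_of_tgt _ _
  · subst hi
    haveI : IsIso (X.iCycles i) := X.isIso_iCycles i (i + 1) (by simp)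
      ((X.isZero_of_isStrictlyLE i (i + 1) (by lia)).eq_of_tgt _ _)
    haveI : IsIso (Y.homologyπ i) := Y.isIso_homologyπ (i - 1) i (by simp)
      ((Y.isZero_of_isStrictlyGE i (i - 1) (by lia)).eq_of_src _ _)
    have h0 : cyclesMap g i = 0 := by
      rw [← cancel_mono (Y.homologyπ i), ← homologyπ_naturality, h, comp_zero, zero_comp]
    rw [zero_f, ← cancel_epi (X.iCycles i), ← cyclesMap_i, h0, comp_zero, zero_comp]
  · exact (X.isZero_of_isStrictlyLE m i hi).eq_of_src _ _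

lemma Q_map_homology {X Y : CochainComplex A ℤ} (g : X ⟶ Y) (n : ℤ) :
    (Hd n).map (Q.map g) = 0 ↔ homologyMap g n = 0 := by
  rw [← cancel_mono ((homologyFunctorFactors A n).hom.app Y), homologyFunctorFactors_hom_naturality,
    zero_comp]
  exact ⟨fun h => by rw [← cancel_epi ((homologyFunctorFactors A n).hom.app X), h, comp_zero],
    fun h => by rw [h, comp_zero]⟩

lemma eq_zero_of_homology_eq_zero {X Y : DerivedCategory A} (m : ℤ) [X.IsLE m] [Y.IsGE m]
    (v : X ⟶ Y) (h : (Hd m).map v = 0) : v = 0 := by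
  obtain ⟨K, hK, ⟨e⟩⟩ := X.exists_iso_Q_obj_of_isLE m
  obtain ⟨L, hL, ⟨e'⟩⟩ := Y.exists_iso_Q_obj_of_isGE m
  have h' : (Hd m).map (e.inv ≫ v ≫ e'.hom) = 0 := by simp [h]
  obtain ⟨K', hK', s, hs, g, hg⟩ := right_fac_of_isStrictlyLE (e.inv ≫ v ≫ e'.hom) m
  have hg' : g = 0 := by
    refine f_eq_zero_of_homologyMap_eq_zero m g ((Q_map_homology g m).1 ?_)
    rw [show Q.map g = Q.map s ≫ (e.inv ≫ v ≫ e'.hom) by rw [hg, IsIso.hom_inv_id_assoc],
      Functor.map_comp, h', comp_zero]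
  rw [hg', Functor.map_zero, comp_zero] at hg
  rw [← cancel_epi e.inv, ← cancel_mono e'.hom, Category.assoc, hg]
  simp

/-- the triangle of truncations -/
lemma truncTriangle (L : CochainComplex A ℤ) (p q : ℤ) (hpq : p + 1 = q) :
    ∃ δ, Triangle.mk (Q.map (L.ιTruncLE p)) (Q.map (L.πTruncGE q)) δ ∈
      distTriang (DerivedCategory A) := by
  have h := L.shortComplexTruncLE_shortExact p
  refine ⟨inv (Q.map (L.shortComplexTruncLEX₃ToTruncGE p q hpq)) ≫ (triangleOfSES h).mor₃,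
    isomorphic_distinguished _ (triangleOfSES_distinguished h) _ (Iso.symm ?_)⟩
  refine Triangle.isoMk _ _ (Iso.refl _) (Iso.refl _)
    (asIso (Q.map (L.shortComplexTruncLEX₃ToTruncGE p q hpq))) ?_ ?_ (by simp)
  · dsimp
    rw [Category.id_comp, Category.comp_id]
    rfl
  · exact (Q.map_comp _ _).symm.trans ((congrArg Q.map
      (CochainComplex.g_shortComplexTruncLEX₃ToTruncGE L p q hpq)).trans (Category.id_comp _).symm)

lemma exists_factor_truncLE {X : DerivedCategory A} (m : ℤ) [X.IsLE m] (L : CochainComplex A ℤ)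
    (u : X ⟶ Q.obj L) (h : (Hd m).map u = 0) :
    ∃ w : X ⟶ Q.obj (L.truncLE (m - 1)), w ≫ Q.map (L.ιTruncLE (m - 1)) = u := by
  obtain ⟨δ, hT⟩ := truncTriangle L (m - 1) m (by lia)
  have h0 : u ≫ Q.map (L.πTruncGE m) = 0 :=
    eq_zero_of_homology_eq_zero m _ (by rw [Functor.map_comp, h, zero_comp])
  obtain ⟨w, hw⟩ := Triangle.coyoneda_exact₂ _ hT u h0
  exact ⟨w, hw.symm⟩

lemma exists_factor_truncGE {Y : DerivedCategory A} (m : ℤ) [Y.IsGE m] (L : CochainComplex A ℤ)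
    (u : Q.obj L ⟶ Y) (h : (Hd m).map u = 0) :
    ∃ w : Q.obj (L.truncGE (m + 1)) ⟶ Y, Q.map (L.πTruncGE (m + 1)) ≫ w = u := by
  obtain ⟨δ, hT⟩ := truncTriangle L m (m + 1) rfl
  have h0 : Q.map (L.ιTruncLE m) ≫ u = 0 :=
    eq_zero_of_homology_eq_zero m _ (by rw [Functor.map_comp, h, comp_zero])
  obtain ⟨w, hw⟩ := Triangle.yoneda_exact₂ _ hT u h0
  exact ⟨w, hw.symm⟩

/-- ghost composites factor through truncations -/
theorem factors_truncLE (K : ℕ ⥤ CochainComplex A ℤ) (n : ℕ)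
    (h0 : ∀ i : ℤ, 0 < i → IsZero ((K.obj 0).homology i))
    (hz : ∀ j : ℕ, j < n → homologyMap (K.map (homOfLE (Nat.le_succ j))) (-(j : ℤ)) = 0) :
    ∀ (j : ℕ), j ≤ n → ∃ φ : Q.obj (K.obj 0) ⟶ Q.obj ((K.obj j).truncLE (-(j : ℤ))),
      φ ≫ Q.map ((K.obj j).ιTruncLE (-(j : ℤ))) = Q.map (K.map (homOfLE (Nat.zero_le j))) := by
  intro j hj
  induction j with
  | zero =>
    haveI : (K.obj 0).IsLE (-((0 : ℕ) : ℤ)) := (CochainComplex.isLE_iff _ _).2 fun i hi =>
      (exactAt_iff_isZero_homology _ i).2 (h0 i (by simpa using hi))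
    haveI : QuasiIso ((K.obj 0).ιTruncLE (-((0 : ℕ) : ℤ))) :=
      (HomologicalComplex.quasiIso_ιTruncLE_iff_isSupported _ _).2 inferInstance
    refine ⟨inv (Q.map ((K.obj 0).ιTruncLE (-((0 : ℕ) : ℤ)))), ?_⟩
    rw [IsIso.inv_hom_id, Subsingleton.elim (homOfLE (Nat.zero_le 0)) (𝟙 0), K.map_id, Q.map_id]
  | succ j ih =>
    obtain ⟨φ, hφ⟩ := ih (Nat.le_of_succ_le hj)
    obtain ⟨w, hw⟩ := exists_factor_truncLE (-(j : ℤ)) (K.obj (j + 1))
      (Q.map ((K.obj j).ιTruncLE (-(j : ℤ))) ≫ Q.map (K.map (homOfLE (Nat.le_succ j)))) (by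
        rw [Functor.map_comp, (Q_map_homology _ _).2 (hz j hj), comp_zero])
    rw [show ((j + 1 : ℕ) : ℤ) = (j : ℤ) + 1 by simp, show -((j : ℤ) + 1) = -(j : ℤ) - 1 by lia]
    exact ⟨φ ≫ w, by rw [Category.assoc, hw, reassoc_of% hφ, ← Q.map_comp, ← K.map_comp]; rfl⟩

/-- ghost composites factor through truncations, dual version -/
theorem factors_truncGE (K : ℕᵒᵖ ⥤ CochainComplex A ℤ) (n : ℕ)
    (h0 : ∀ i : ℤ, i < 0 → IsZero ((K.obj (Opposite.op 0)).homology i))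
    (hz : ∀ j : ℕ, j < n → homologyMap (K.map (homOfLE (Nat.le_succ j)).op) (j : ℤ) = 0) :
    ∀ (j : ℕ), j ≤ n → ∃ φ : Q.obj ((K.obj (Opposite.op j)).truncGE (j : ℤ)) ⟶
        Q.obj (K.obj (Opposite.op 0)),
      Q.map ((K.obj (Opposite.op j)).πTruncGE (j : ℤ)) ≫ φ =
        Q.map (K.map (homOfLE (Nat.zero_le j)).op) := by
  intro j hj
  induction j with
  | zero =>
    haveI : (K.obj (Opposite.op 0)).IsGE ((0 : ℕ) : ℤ) := (CochainComplex.isGE_iff _ _).2 fun i hi =>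
      (exactAt_iff_isZero_homology _ i).2 (h0 i (by simpa using hi))
    haveI : QuasiIso ((K.obj (Opposite.op 0)).πTruncGE ((0 : ℕ) : ℤ)) :=
      (HomologicalComplex.quasiIso_πTruncGE_iff_isSupported _ _).2 inferInstance
    refine ⟨inv (Q.map ((K.obj (Opposite.op 0)).πTruncGE ((0 : ℕ) : ℤ))), ?_⟩
    rw [IsIso.hom_inv_id, Subsingleton.elim (homOfLE (Nat.zero_le 0)) (𝟙 0), op_id, K.map_id,
      Q.map_id]
  | succ j ih =>
    obtain ⟨φ, hφ⟩ := ih (Nat.le_of_succ_le hj)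
    obtain ⟨w, hw⟩ := exists_factor_truncGE (j : ℤ) (K.obj (Opposite.op (j + 1)))
      (Q.map (K.map (homOfLE (Nat.le_succ j)).op) ≫ Q.map ((K.obj (Opposite.op j)).πTruncGE (j : ℤ)))
      (by rw [Functor.map_comp, (Q_map_homology _ _).2 (hz j hj), zero_comp])
    rw [show ((j + 1 : ℕ) : ℤ) = (j : ℤ) + 1 by simp]
    exact ⟨w ≫ φ, by
      rw [reassoc_of% hw, hφ, ← Q.map_comp, ← K.map_comp, ← op_comp]; rfl⟩

/-- an endomorphism zero in homology of an object of amplitude `n` is nilpotent -/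
theorem pow_eq_zero (X : DerivedCategory A) (a : ℤ) (n : ℕ)
    (hX : ∀ i : ℤ, i < a ∨ a + n < i → IsZero ((Hd i).obj X)) (f : End X)
    (hf : ∀ i : ℤ, (Hd i).map f = 0) : f ^ (n + 1) = 0 := by
  obtain ⟨K, ⟨e⟩⟩ : ∃ K, Nonempty (Q.obj K ≅ X) := ⟨_, ⟨Q.objObjPreimageIso X⟩⟩
  haveI : X.IsGE a := (isGE_iff X a).2 fun i hi => hX i (Or.inl hi)
  haveI : X.IsLE (a + n) := (isLE_iff X _).2 fun i hi => hX i (Or.inr hi)
  have key : ∀ j : ℕ, ∃ w : X ⟶ Q.obj (K.truncLE (a + n - j)),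
      w ≫ Q.map (K.ιTruncLE (a + n - j)) ≫ e.hom = f ^ j := by
    intro j
    induction j with
    | zero =>
      haveI : (Q.obj K).IsLE (a + n) := TStructure.t.isLE_of_iso e.symm _
      haveI : K.IsLE (a + n - ((0 : ℕ) : ℤ)) := by
        simpa using (isLE_Q_obj_iff K (a + n)).1 inferInstance
      haveI : QuasiIso (K.ιTruncLE (a + n - ((0 : ℕ) : ℤ))) :=
        (HomologicalComplex.quasiIso_ιTruncLE_iff_isSupported _ _).2 inferInstance
      refine ⟨e.inv ≫ inv (Q.map (K.ιTruncLE (a + n - ((0 : ℕ) : ℤ)))), ?_⟩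
      rw [Category.assoc, IsIso.inv_hom_id_assoc, Iso.inv_hom_id, pow_zero]
      rfl
    | succ j ih =>
      obtain ⟨w, hw⟩ := ih
      obtain ⟨w', hw'⟩ := exists_factor_truncLE (a + n - j) K
        (Q.map (K.ιTruncLE (a + n - j)) ≫ e.hom ≫ f ≫ e.inv) (by simp [hf])
      rw [show a + n - ((j + 1 : ℕ) : ℤ) = a + n - (j : ℤ) - 1 by lia]
      refine ⟨w ≫ w', ?_⟩
      rw [Category.assoc, reassoc_of% hw', Iso.inv_hom_id, Category.comp_id, pow_succ', End.mul_def,
        ← hw]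
      simp
  obtain ⟨w, hw⟩ := key (n + 1)
  have h0 : Q.map (K.ιTruncLE (a + n - ((n + 1 : ℕ) : ℤ))) ≫ e.hom = 0 := by
    haveI : (Q.obj (K.truncLE (a + n - ((n + 1 : ℕ) : ℤ)))).IsLE (a - 1) := by
      rw [show a + n - ((n + 1 : ℕ) : ℤ) = a - 1 by lia]
      infer_instance
    exact TStructure.t.zero _ (a - 1) a (by lia)
  rw [← hw, h0, comp_zero]

end Groth.Agent.CohDerRoofs
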